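import Cfsg.Agent.Lib.FrobSystem.Zassenhaus
import Cfsg.Agent.Lib.OddTau.Basic
import Cfsg.Agent.Lib.OddOrder.FeitThompson
import Cfsg.Agent.Lib.ZStar.UniqueCase
import Cfsg.Agent.Lib.PrimePowerClass.Radical
import Cfsg.Agent.Lib.LargeExtra.Basic

/-!
# Groups with a Frobenius system on the maximal solvable subgroups

Owner: helper33.  `FrobSys F` is the hypothesis of row 4235.  A non-solvable group with such a system has
no solvable normal subgroup, some `F M` is a nilpotent TI Hall subgroup of even order containing the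
centralisers of its elements, the group is simple, and so `SL(2, 2^n)` or a Suzuki group.
-/

set_option autoImplicit false
set_option linter.unusedSectionVars false
set_option linter.style.haveILetI false

open scoped Pointwise

namespace Cfsg.Agent.Lib.FrobSystem

open Subgroup
open Cfsg.Agent.Lib.CNGroup.EvenTI
open Cfsg.Agent.Lib.Involutions.Basic Cfsg.Agent.Lib.Fusion.Swappers

universe u

variable {G : Type u} [Group G]

/-- A solvable subgroup contained in no larger solvable subgroup. -/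
def MaxSol (M : Subgroup G) : Prop :=
  Group.IsSolvable M ∧ ∀ M' : Subgroup G, M < M' → ¬ Group.IsSolvable M'

/-- The hypothesis of row 4235. -/
def FrobSys (F : Subgroup G → Subgroup G) : Prop :=
  ∀ M : Subgroup G, (Group.IsSolvable M ∧ ∀ M' : Subgroup G, M < M' → ¬ Group.IsSolvable M') →
    F M ≤ M ∧ M ≤ normalizer (F M : Set G) ∧
    (∀ a ∈ M, a ∉ F M → ∀ x ∈ F M, x * a = a * x → x = 1) ∧
    (∀ g : G, g ∉ M → F M ⊓ (MulAut.conj g • F M) = ⊥) ∧
    (F M ≠ ⊥ ∨ IsMulCommutative M)

variable [Finite G]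

theorem exists_maxSol {K : Subgroup G} (hK : Group.IsSolvable K) :
    ∃ M : Subgroup G, K ≤ M ∧ MaxSol M := by
  obtain ⟨M, hKM, hM⟩ :=
    (Set.toFinite {L : Subgroup G | Group.IsSolvable L}).exists_le_maximal hK
  exact ⟨M, hKM, hM.prop, fun M' hlt hM' => hlt.not_ge (hM.2 hM' hlt.le)⟩

theorem isSolvable_of_abelian {K : Subgroup G} (h : ∀ a ∈ K, ∀ b ∈ K, a * b = b * a) :
    Group.IsSolvable K :=
  Group.isSolvable_of_comm fun a b => Subtype.ext (h a a.2 b b.2)

/-- A non-trivial solvable normal subgroup contains a non-trivial abelian one. -/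
theorem exists_abelian_of_solvable {A : Subgroup G} [A.Normal] (hA : Group.IsSolvable A)
    (hne : A ≠ ⊥) :
    ∃ B : Subgroup G, B.Normal ∧ B ≠ ⊥ ∧ ∀ a ∈ B, ∀ b ∈ B, a * b = b * a := by
  obtain ⟨B, -, hB⟩ := (Set.toFinite
    {L : Subgroup G | L.Normal ∧ Group.IsSolvable L ∧ L ≠ ⊥}).exists_le_minimal
      (show A ∈ _ from ⟨inferInstance, hA, hne⟩)
  obtain ⟨hBn, hBs, hB1⟩ := hB.prop
  refine ⟨B, hBn, hB1, ?_⟩
  haveI := hBn
  haveI := hBs
  by_cases hc : ⁅B, B⁆ = ⊥
  · exact fun a ha b hb =>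
      (mem_centralizer_iff.1 ((commutator_eq_bot_iff_le_centralizer).1 hc ha) b hb).symm
  exfalso
  have hle : ⁅B, B⁆ ≤ B := commutator_le_right B B
  have hcn : (⁅B, B⁆ : Subgroup G).Normal := commutator_normal B B
  have hcs : Group.IsSolvable (⁅B, B⁆ : Subgroup G) :=
    Group.isSolvable_of_isSolvable_injective (f := Subgroup.inclusion hle)
      (Subgroup.inclusion_injective _)
  have heq : ⁅B, B⁆ = B := le_antisymm hle (hB.2 ⟨hcn, hcs, hc⟩ hle)
  haveI : Nontrivial B := (nontrivial_iff_ne_bot B).2 hB1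
  have htop : commutator B = ⊤ := by
    apply Subgroup.map_injective B.subtype_injective
    rw [map_subtype_commutator, heq, ← MonoidHom.range_eq_map, range_subtype]
  exact (Group.IsSolvable.commutator_lt_top_of_nontrivial B).ne htop

section System

variable {F : Subgroup G → Subgroup G} (hF : FrobSys F) {M : Subgroup G} (hM : MaxSol M)
  (hne : F M ≠ ⊥)

include hF hM

theorem cent_of_mem {x : G} (hx : x ∈ F M) (hx1 : x ≠ 1) :
    centralizer ({x} : Set G) ≤ F M := by
  obtain ⟨-, -, hc, hti, -⟩ := hF M hM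
  intro y hy
  have hyx := mem_centralizer_singleton_iff.1 hy
  have hyM : y ∈ M := by
    by_contra hyM
    have h : x ∈ F M ⊓ MulAut.conj y • F M := by
      refine mem_inf.2 ⟨hx, mem_smul_pointwise_iff_exists _ _ _ |>.2 ⟨x, hx, ?_⟩⟩
      rw [MulAut.smul_def, MulAut.conj_apply, hyx, mul_inv_cancel_right]
    rw [hti y hyM, mem_bot] at h
    exact hx1 h
  by_contra hyF
  exact hx1 (hc y hyM hyF x hx hyx.symm)

theorem ti_of_mem {x : G} (hx : x ∈ F M) (hx1 : x ≠ 1) {g : G} (hg : g * x * g⁻¹ ∈ F M) :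
    g ∈ M := by
  obtain ⟨-, -, -, hti, -⟩ := hF M hM
  by_contra hgM
  have h : g * x * g⁻¹ ∈ F M ⊓ MulAut.conj g • F M :=
    mem_inf.2 ⟨hg, mem_smul_pointwise_iff_exists _ _ _ |>.2 ⟨x, hx, rfl⟩⟩
  rw [hti g hgM, mem_bot] at h
  exact hx1 (conj_eq_one_iff.1 h)

include hne in
theorem normalizer_eq : normalizer (F M : Set G) = M := by
  obtain ⟨-, hnorm, -, -, -⟩ := hF M hM
  refine le_antisymm (fun g hg => ?_) hnorm
  obtain ⟨⟨x, hx⟩, hx1⟩ := (ne_bot_iff_exists_ne_one (H := F M)).1 hne
  exact ti_of_mem hF hM hx (fun e => hx1 (Subtype.ext e)) ((mem_normalizer_iff.1 hg x).1 hx)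

end System

variable {F : Subgroup G → Subgroup G}

/-- Some `F M` with `M` above a Sylow `2`-subgroup is non-trivial. -/
theorem exists_member (hF : FrobSys F) (hG : ¬ Group.IsSolvable G) :
    ∃ (M : Subgroup G) (S : Sylow 2 G), MaxSol M ∧ (S : Subgroup G) ≤ M ∧ F M ≠ ⊥ := by
  haveI : Fact (Nat.Prime 2) := ⟨Nat.prime_two⟩
  obtain ⟨S⟩ : Nonempty (Sylow 2 G) := inferInstance
  set N := normalizer ((S : Subgroup G) : Set G)
  haveI hSn : ((S : Subgroup G).subgroupOf N).Normal := normal_in_normalizer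
  have hNs : Group.IsSolvable N := by
    haveI := S.isPGroup'.isNilpotent
    haveI : Group.IsNilpotent ((S : Subgroup G).subgroupOf N) :=
      Group.nilpotent_of_mulEquiv
        (subgroupOfEquivOfLe (le_normalizer : (S : Subgroup G) ≤ N)).symm
    haveI : Group.IsSolvable (N ⧸ (S : Subgroup G).subgroupOf N) := by
      refine OddOrder.FeitThompson.isSolvable_of_odd_card ?_
      refine Nat.not_even_iff_odd.1 fun he => ?_
      have h2 : 2 ∣ ((S : Subgroup G).subgroupOf N).index := even_iff_two_dvd.1 he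
      exact S.not_dvd_index (h2.trans (relIndex_dvd_index_of_le
        (le_normalizer : (S : Subgroup G) ≤ N)))
    exact Group.isSolvable_of_ker_le_range ((S : Subgroup G).subgroupOf N).subtype
      (QuotientGroup.mk' ((S : Subgroup G).subgroupOf N)) (by simp)
  obtain ⟨M, hNM, hM⟩ := exists_maxSol hNs
  refine ⟨M, S, hM, le_normalizer.trans hNM, fun hbot => hG ?_⟩
  have hc : IsMulCommutative M := (hF M hM).2.2.2.2.resolve_left fun h => h hbot
  have hNC : N ≤ centralizer ((S : Subgroup G) : Set G) := fun n hn =>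
    mem_centralizer_iff.2 fun s hs =>
      congrArg Subtype.val (hc.is_comm.comm ⟨s, hNM (le_normalizer hs)⟩ ⟨n, hNM hn⟩)
  set K := (MonoidHom.transferSylow S hNC).ker
  have hK : IsComplement' K (S : Subgroup G) :=
    MonoidHom.ker_transferSylow_isComplement' S hNC
  haveI : Group.IsSolvable K := by
    refine OddOrder.FeitThompson.isSolvable_of_odd_card (Nat.not_even_iff_odd.1 fun he => ?_)
    exact S.not_dvd_index (hK.index_eq_card.symm ▸ even_iff_two_dvd.1 he)
  haveI : Group.IsSolvable (S : Subgroup G) := by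
    haveI := S.isPGroup'.isNilpotent
    infer_instance
  exact Group.isSolvable_of_ker_le_range K.subtype (MonoidHom.transferSylow S hNC)
    (by rw [range_subtype])

/-- There are no solvable normal subgroups. -/
theorem normal_solvable_eq_bot (hF : FrobSys F) (hG : ¬ Group.IsSolvable G) {A : Subgroup G}
    [A.Normal] (hA : Group.IsSolvable A) : A = ⊥ := by
  by_contra hA1
  obtain ⟨B, hBn, hB1, hBc⟩ := exists_abelian_of_solvable hA hA1
  haveI := hBn
  obtain ⟨M, S, hM, -, hne⟩ := exists_member hF hG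
  obtain ⟨hFM, hnorm, -, -, -⟩ := hF M hM
  have hBM : B ≤ M := by
    by_contra hBM
    exact hM.2 (B ⊔ M) (lt_of_le_of_ne le_sup_right fun e => hBM (e ▸ le_sup_left))
      (PrimePowerClass.Radical.isSolvable_sup (isSolvable_of_abelian hBc) hM.1)
  have hBF : B ≤ F M := by
    by_cases hint : ∃ b ∈ B, b ∈ F M ∧ b ≠ 1
    · obtain ⟨b, hb, hbF, hb1⟩ := hint
      exact fun y hy => cent_of_mem hF hM hbF hb1
        (mem_centralizer_singleton_iff.2 (hBc y hy b hb))
    · push Not at hint
      obtain ⟨⟨x, hx⟩, hx1⟩ := (ne_bot_iff_exists_ne_one (H := F M)).1 hne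
      intro y hy
      refine cent_of_mem hF hM hx (fun e => hx1 (Subtype.ext e))
        (mem_centralizer_singleton_iff.2 ?_)
      have hcomm : y * x * y⁻¹ * x⁻¹ = 1 := hint _
        (by
          rw [show y * x * y⁻¹ * x⁻¹ = y * (x * y⁻¹ * x⁻¹) by group]
          exact mul_mem hy (Subgroup.Normal.conj_mem inferInstance _ (inv_mem hy) x))
        (mul_mem ((mem_normalizer_iff.1 (hnorm (hBM hy)) x).1 hx) (inv_mem hx))
      exact mul_inv_eq_iff_eq_mul.1 (mul_inv_eq_one.1 hcomm)
  obtain ⟨⟨b, hb⟩, hb1⟩ := (ne_bot_iff_exists_ne_one (H := B)).1 hB1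
  have htop : M = ⊤ := (eq_top_iff' M).2 fun g =>
    ti_of_mem hF hM (hBF hb) (fun e => hb1 (Subtype.ext e))
      (hBF (Subgroup.Normal.conj_mem inferInstance b hb g))
  apply hG
  haveI : Group.IsSolvable M := hM.1
  subst htop
  exact Group.isSolvable_of_surjective (f := (Subgroup.topEquiv (G := G)).toMonoidHom)
      (Subgroup.topEquiv (G := G)).surjective

/-- The member is a nilpotent TI Hall subgroup of even order. -/
theorem evenTI (hF : FrobSys F) (hG : ¬ Group.IsSolvable G) {M : Subgroup G} {S : Sylow 2 G}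
    (hM : MaxSol M) (hSM : (S : Subgroup G) ≤ M) (hne : F M ≠ ⊥) :
    EvenTI (F M) ∧ ∃ a ∈ M, a ∉ F M := by
  classical
  haveI : Fact (Nat.Prime 2) := ⟨Nat.prime_two⟩
  obtain ⟨hFM, hnorm, hc, -, -⟩ := hF M hM
  have hN := normalizer_eq hF hM hne
  have hsyl : ∀ p : ℕ, p.Prime → p ∣ Nat.card (F M) →
      ∃ Q : Sylow p G, (Q : Subgroup G) ≤ F M := by
    intro p hp hd
    haveI := Fact.mk hp
    obtain ⟨x, hx⟩ := exists_prime_orderOf_dvd_card' (G := F M) p hd
    have hxo : orderOf (x : G) = p := (Subgroup.orderOf_coe x).trans hx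
    have hpg : IsPGroup p (zpowers (x : G)) :=
      IsPGroup.of_card (n := 1) (by rw [Nat.card_zpowers, hxo, pow_one])
    obtain ⟨Q, hQ⟩ := hpg.exists_le_sylow
    have hx1 : (x : G) ≠ 1 := fun e => hp.ne_one (by rw [← hxo, e, orderOf_one])
    haveI : Nontrivial (Q : Subgroup G) :=
      (nontrivial_iff_ne_bot _).2 fun e => hx1 (by
        have := hQ (mem_zpowers (x : G))
        rw [e, mem_bot] at this
        exact this)
    haveI : Nontrivial (center (Q : Subgroup G)) := Q.isPGroup'.center_nontrivial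
    obtain ⟨⟨z, hz⟩, hz1⟩ := exists_ne (1 : center (Q : Subgroup G))
    have hzF : (z : G) ∈ F M := cent_of_mem hF hM x.2 hx1 (mem_centralizer_singleton_iff.2
      (congrArg Subtype.val (mem_center_iff.1 hz ⟨x, hQ (mem_zpowers _)⟩)).symm)
    refine ⟨Q, fun y hy => cent_of_mem hF hM hzF (fun e => hz1 (Subtype.ext (Subtype.ext e)))
      (mem_centralizer_singleton_iff.2 (congrArg Subtype.val (mem_center_iff.1 hz ⟨y, hy⟩)))⟩
  have heven : Even (Nat.card (F M)) := by
    by_contra hodd
    rw [Nat.not_even_iff_odd] at hodd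
    -- every involution of `M` inverts `F M`
    have hinv : ∀ t ∈ M, orderOf t = 2 → ∀ f ∈ F M, t * f * t⁻¹ = f⁻¹ := fun t ht ht2 =>
      LargeExtra.Basic.inverts_of_fixedPointFree (invol_mul_self ht2) (F M)
        (fun k hk => (mem_normalizer_iff.1 (hnorm ht) k).1 hk) fun k hk he => by
        refine hc t ht (fun htF => ?_) k hk (mul_inv_eq_iff_eq_mul.1 he).symm
        have := hodd.of_dvd_nat (orderOf_dvd_natCard _ htF)
        rw [ht2] at this
        exact absurd this (by decide)
    have huniq : ∀ t ∈ (S : Subgroup G), ∀ t' ∈ (S : Subgroup G), orderOf t = 2 → orderOf t' = 2 →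
        t = t' := by
      intro t ht t' ht' h2 h2'
      obtain ⟨⟨f, hf⟩, hf1⟩ := (ne_bot_iff_exists_ne_one (H := F M)).1 hne
      have hmem : t * t' ∈ F M := by
        refine cent_of_mem hF hM hf (fun e => hf1 (Subtype.ext e))
          (mem_centralizer_singleton_iff.2 ?_)
        have e1 := hinv t' (hSM ht') h2' f hf
        have e2 := hinv t (hSM ht) h2 f⁻¹ (inv_mem hf)
        rw [inv_inv] at e2
        calc t * t' * f = t * (t' * f * t'⁻¹) * t⁻¹ * (t * t') := by group
          _ = f * (t * t') := by rw [e1, e2]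
      obtain ⟨k, hk⟩ := IsPGroup.iff_orderOf.1 S.isPGroup' ⟨t * t', mul_mem ht ht'⟩
      rw [Subgroup.orderOf_mk] at hk
      have h1 : k = 0 := by
        by_contra hk0
        have := hodd.of_dvd_nat (orderOf_dvd_natCard _ hmem)
        rw [hk, Nat.odd_pow_iff hk0] at this
        exact absurd this (by decide)
      rw [h1, pow_zero, orderOf_eq_one_iff] at hk
      rw [eq_inv_of_mul_eq_one_left hk, invol_inv h2']
    have h2G : 2 ∣ Nat.card G := by
      by_contra h
      exact hG (OddOrder.FeitThompson.isSolvable_of_odd_card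
        (Nat.not_even_iff_odd.1 fun he => h (even_iff_two_dvd.1 he)))
    obtain ⟨t, ht⟩ := exists_prime_orderOf_dvd_card' (G := (S : Subgroup G)) 2
      (S.dvd_card_of_dvd_card h2G)
    rw [← Subgroup.orderOf_coe] at ht
    obtain ⟨N, hNn, hNodd, hNc⟩ := ZStar.UniqueCase.zstar S (t : G) ht t.2 fun g hg =>
      huniq _ hg _ t.2 (by rw [orderOf_conj_eq, ht]) ht
    haveI := hNn
    have hN1 : N = ⊥ := normal_solvable_eq_bot hF hG
      (OddOrder.FeitThompson.isSolvable_of_odd_card hNodd)
    have htc : (t : G) ∈ center G := mem_center_iff.2 fun g => by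
      have h1 := hNc g
      rw [hN1, mem_bot] at h1
      exact (mul_inv_eq_iff_eq_mul.1 (mul_inv_eq_one.1 h1)).symm
    have hz : center G = ⊥ := normal_solvable_eq_bot hF hG
      (isSolvable_of_abelian fun a _ b hb => mem_center_iff.1 hb a)
    rw [hz, mem_bot] at htc
    exact invol_ne_one ht htc
  have hlt : ∃ a ∈ M, a ∉ F M := by
    by_contra hno
    push Not at hno
    obtain ⟨K, hK, hKc, -⟩ := Induced.FrobeniusKernel.exists_normal_complement (H := F M)
      (fun g hg h hh hgh => not_not.mp fun h1 => hg (hno g (ti_of_mem hF hM hh h1 hgh)))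
    haveI := hK
    obtain ⟨Q, hQ⟩ := hsyl 2 Nat.prime_two (even_iff_two_dvd.1 heven)
    have hK1 : K = ⊥ := normal_solvable_eq_bot hF hG
      (OddOrder.FeitThompson.isSolvable_of_odd_card (Nat.not_even_iff_odd.1 fun he =>
        Q.not_dvd_index ((even_iff_two_dvd.1 he).trans
          (hKc.index_eq_card.symm ▸ index_dvd_of_le hQ))))
    rw [hK1] at hKc
    have htop : F M = ⊤ := isComplement'_bot_left.1 hKc
    apply hG
    haveI := hM.1
    have : M = ⊤ := top_le_iff.1 (htop ▸ hFM)
    subst this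
    exact Group.isSolvable_of_surjective (f := (Subgroup.topEquiv (G := G)).toMonoidHom)
      (Subgroup.topEquiv (G := G)).surjective
  refine ⟨⟨?_, heven, fun x hx hx1 g hg => ?_, fun x hx hx1 => cent_of_mem hF hM hx hx1, hsyl⟩,
    hlt⟩
  · obtain ⟨a, ha, haF⟩ := hlt
    obtain ⟨p, hp, hd⟩ := Nat.exists_prime_and_dvd
      (show orderOf a ≠ 1 from fun e => haF (orderOf_eq_one_iff.1 e ▸ one_mem _))
    haveI := Fact.mk hp
    set b := a ^ (orderOf a / p) with hb
    have hbo : orderOf b = p := orderOf_pow_orderOf_div (orderOf_pos a).ne' hd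
    have hb1 : b ≠ 1 := fun e => hp.ne_one (by rw [← hbo, e, orderOf_one])
    have hbF : b ∉ F M := fun h => haF (cent_of_mem hF hM h hb1
      (mem_centralizer_singleton_iff.2 (Commute.self_pow a _).eq))
    have hbM : b ∈ M := pow_mem ha _
    refine OddTau.Basic.isNilpotent_of_fpf (p := p) ?_ (hnorm hbM) (by rw [← hbo, pow_orderOf_eq_one])
      ((eq_bot_iff_forall _).2 fun x hx => hc b hbM hbF x hx.1
        (mem_centralizer_singleton_iff.1 hx.2))
    haveI := hM.1
    exact Group.isSolvable_of_isSolvable_injective (f := Subgroup.inclusion hFM)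
      (Subgroup.inclusion_injective _)
  · rw [hN]
    exact ti_of_mem hF hM hx hx1 hg

/-- The classification. -/
theorem sl_or_suzuki_of_frobSys (hF : FrobSys F) (hG : ¬ Group.IsSolvable G) :
    (∃ (K : Type) (_ : Field K) (_ : Fintype K), (∃ n : ℕ, 2 ≤ n ∧ Fintype.card K = 2 ^ n) ∧
        Nonempty (G ≃* Matrix.SpecialLinearGroup (Fin 2) K)) ∨
      Cfsg.Lie.IsoSuzuki G := by
  classical
  haveI : Fact (Nat.Prime 2) := ⟨Nat.prime_two⟩
  obtain ⟨M, S, hM, hSM, hne⟩ := exists_member hF hG
  obtain ⟨hH, a, haM, haF⟩ := evenTI hF hG hM hSM hne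
  have hN : normalizer (F M : Set G) = M := normalizer_eq hF hM hne
  have hMtop : M ≠ ⊤ := by
    rintro rfl
    haveI := hM.1
    exact hG (Group.isSolvable_of_surjective (f := (Subgroup.topEquiv (G := G)).toMonoidHom)
      (Subgroup.topEquiv (G := G)).surjective)
  have hNtop : normalizer (F M : Set G) ≠ ⊤ := by rwa [hN]
  have hpair : ∀ u : G, orderOf u = 2 → u ∉ normalizer (F M : Set G) →
      ∃ d ∈ pairStab (F M) u, d ≠ 1 := by
    intro u hu huN
    obtain ⟨d, hd, h, hh, rfl⟩ := exists_eq_mul hH hu huN (hN.symm ▸ haM)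
    exact ⟨d, hd, fun e => haF (by rwa [e, one_mul])⟩
  haveI : IsSimpleGroup G := by
    haveI : Nontrivial G := by
      by_contra h
      rw [not_nontrivial_iff_subsingleton] at h
      exact hG (Group.isSolvable_of_comm fun _ _ => Subsingleton.elim _ _)
    refine ⟨fun N hNn => or_iff_not_imp_left.2 fun hN1 => ?_⟩
    haveI := hNn
    have heven : 2 ∣ Nat.card N := by
      by_contra h
      exact hN1 (normal_solvable_eq_bot hF hG (OddOrder.FeitThompson.isSolvable_of_odd_card
        (Nat.not_even_iff_odd.1 fun he => h (even_iff_two_dvd.1 he))))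
    obtain ⟨t, ht⟩ := exists_prime_orderOf_dvd_card' (G := N) 2 heven
    rw [← Subgroup.orderOf_coe] at ht
    -- a conjugate of `t` outside `M`
    obtain ⟨u, huN', hu, huM⟩ : ∃ u ∈ N, orderOf u = 2 ∧ u ∉ normalizer (F M : Set G) := by
      by_contra hno
      push Not at hno
      have htM : (t : G) ∈ normalizer (F M : Set G) := hno _ t.2 ht
      refine hNtop ((eq_top_iff' _).2 fun g => ?_)
      exact hH.ti _ (invol_mem hH ht htM) (invol_ne_one ht) g
        (invol_mem hH ((orderOf_conj_eq g _).trans ht)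
          (hno _ (hNn.conj_mem _ t.2 g) ((orderOf_conj_eq g _).trans ht)))
    -- the two point stabiliser lies in `N`
    have hD : ∀ d ∈ pairStab (F M) u, d ∈ N := by
      intro d hd
      have h1 : d * d ∈ N := by
        have h2 : d * u * d⁻¹ * u ∈ N := mul_mem (hNn.conj_mem u huN' d) huN'
        have h3 : u * d⁻¹ * u = d := by
          rw [inverted hH hu huM (inv_mem hd), inv_inv]
        have h4 : d * d = d * u * d⁻¹ * u := by
          calc d * d = d * (u * d⁻¹ * u) := by rw [h3]
            _ = d * u * d⁻¹ * u := by group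
        rw [h4]
        exact h2
      have hodd : Odd (orderOf d) := by
        refine Nat.not_even_iff_odd.1 fun he => ?_
        have hpos := orderOf_pos d
        have hd2 : 2 ∣ orderOf d := even_iff_two_dvd.1 he
        have ho : orderOf (d ^ (orderOf d / 2)) = 2 := orderOf_pow_orderOf_div hpos.ne' hd2
        have hmem : d ^ (orderOf d / 2) ∈ pairStab (F M) u := pow_mem hd _
        exact invol_ne_one ho (eq_one_of_mem_pairStab hH huM hmem
          (invol_mem hH ho (mem_pairStab.1 hmem).1))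
      obtain ⟨k, hk⟩ := hodd
      have h3 : d = (d * d) ^ (k + 1) := by
        rw [← sq, ← pow_mul, show 2 * (k + 1) = orderOf d + 1 by omega, pow_succ,
          pow_orderOf_eq_one, one_mul]
      rw [h3]
      exact pow_mem h1 _
    obtain ⟨d, hd, hd1⟩ := hpair u hu huM
    -- `F M` is made of commutators with `d`
    have hFN : F M ≤ N := by
      intro y hy
      let φ : F M → F M := fun f => ⟨d * f * d⁻¹ * (f : G)⁻¹,
        mul_mem (conj_mem (mem_pairStab.1 hd).1 f.2) (inv_mem f.2)⟩
      have hφ : Function.Injective φ := by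
        intro f f' h
        have h1 : d * f * d⁻¹ * (f : G)⁻¹ = d * f' * d⁻¹ * (f' : G)⁻¹ := congrArg Subtype.val h
        by_contra hff
        refine hd1 (eq_one_of_commute hH huM hd (mul_mem (inv_mem f'.2) f.2)
          (fun e => hff (Subtype.ext (inv_mul_eq_one.1 e).symm)) ?_)
        calc d * ((f' : G)⁻¹ * f) = d * (f' : G)⁻¹ * d⁻¹ * (d * f * d⁻¹ * (f : G)⁻¹) * f * d := by
              group
          _ = d * (f' : G)⁻¹ * d⁻¹ * (d * f' * d⁻¹ * (f' : G)⁻¹) * f * d := by rw [h1]
          _ = (f' : G)⁻¹ * f * d := by group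
      obtain ⟨f, hf⟩ := Finite.surjective_of_injective hφ ⟨y, hy⟩
      have hf' : d * f * d⁻¹ * (f : G)⁻¹ = y := congrArg Subtype.val hf
      rw [← hf', show d * (f : G) * d⁻¹ * (f : G)⁻¹ = d * ((f : G) * d⁻¹ * (f : G)⁻¹) by group]
      exact mul_mem (hD d hd) (hNn.conj_mem _ (inv_mem (hD d hd)) _)
    have hMN : normalizer (F M : Set G) ≤ N := fun n hn => by
      obtain ⟨e, he, h, hh, rfl⟩ := exists_eq_mul hH hu huM hn
      exact mul_mem (hD e he) (hFN hh)
    refine (eq_top_iff' N).2 fun g => ?_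
    by_cases hg : g ∈ normalizer (F M : Set G)
    · exact hMN hg
    obtain ⟨k, hk, hku⟩ := exists_translate hH hu huM ⟨d, hd, hd1⟩ hg
    rw [show g = k * u * (u⁻¹ * k⁻¹ * g) by group]
    exact mul_mem (mul_mem (hFN hk) huN') (hMN hku)
  obtain ⟨u, hu, huN⟩ := exists_invol_notMem hH hNtop
  exact sl_or_suzuki hH hu huN (hpair u hu huN)

end Cfsg.Agent.Lib.FrobSystem
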