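import Cfsg.Agent.Lib.CNGroup.EvenTI
import Cfsg.Agent.Lib.BenderSuzuki.Zassenhaus
import Cfsg.Agent.Lib.RankOneIdent.Suzuki.Main

/-!
# Simple groups with an even nilpotent TI Hall subgroup

Owner: helper33.  A finite simple group with a subgroup `H` as in `EvenTI`, whose normaliser is proper and
larger than `H`, acts on the cosets of `N(H)` as a Zassenhaus group of odd degree with regular kernel `H`;
hence it is `SL(2, 2^n)` or a Suzuki group.  (The construction of the action follows
`Lib/CNGroup/EvenTI.lean` of helper73.)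
-/

set_option autoImplicit false
set_option linter.unusedSectionVars false
set_option linter.style.haveILetI false

namespace Cfsg.Agent.Lib.FrobSystem

open Subgroup
open Cfsg.Agent.Lib.CNGroup.EvenTI
open Cfsg.Agent.Lib.Involutions.Basic Cfsg.Agent.Lib.Fusion.Swappers
open Cfsg.Agent.Lib.Zassenhaus

universe u

variable {G : Type u} [Group G] [Finite G] {H : Subgroup G}

theorem center_sl_two_char_two {F : Type} [Field F] [CharP F 2] :
    Subgroup.center (Matrix.SpecialLinearGroup (Fin 2) F) = ⊥ := by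
  rw [Subgroup.eq_bot_iff_forall]
  intro A hA
  obtain ⟨r, hr, hA'⟩ := Matrix.SpecialLinearGroup.mem_center_iff.1 hA
  rw [Fintype.card_fin] at hr
  have hr1 : r = 1 := CharTwo.sq_injective (by simpa using hr)
  refine Subtype.ext ?_
  rw [← hA', hr1, map_one]
  rfl

/-- The recognition of simple groups with an `EvenTI` subgroup. -/
theorem sl_or_suzuki [IsSimpleGroup G] (hH : EvenTI H) {u : G} (hu : orderOf u = 2)
    (huN : u ∉ normalizer (H : Set G)) (hne : ∃ d ∈ pairStab H u, d ≠ 1) :
    (∃ (K : Type) (_ : Field K) (_ : Fintype K), (∃ n : ℕ, 2 ≤ n ∧ Fintype.card K = 2 ^ n) ∧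
        Nonempty (G ≃* Matrix.SpecialLinearGroup (Fin 2) K)) ∨
      Cfsg.Lie.IsoSuzuki G := by
  classical
  set N := normalizer (H : Set G) with hNdef
  have hN : N ≠ ⊤ := fun e => huN (e ▸ mem_top u)
  haveI : Fintype (G ⧸ N) := Fintype.ofFinite _
  let o : G ⧸ N := ((1 : G) : G ⧸ N)
  let q : G ⧸ N := ((u : G) : G ⧸ N)
  have hoq : q ≠ o := fun e => huN (mk_eq_one_iff.mp e)
  have htrans : ∀ y : G ⧸ N, y ≠ o → ∃ k ∈ H, k • q = y ∧ k • o = o := by
    intro y hy
    induction y using QuotientGroup.induction_on with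
    | H g =>
      obtain ⟨k, hk, hku⟩ := exists_translate hH hu huN hne (fun h => hy (mk_eq_one_iff.mpr h))
      refine ⟨k, hk, smul_eq_iff.mpr ?_, smul_eq_iff.mpr (by simpa using le_normalizer hk)⟩
      have := inv_mem hku
      simpa [mul_inv_rev, mul_assoc] using this
  have hpair : ∀ a b : G ⧸ N, a ≠ b → ∃ g : G, g • o = a ∧ g • q = b := by
    intro a b hab
    obtain ⟨g, hg⟩ := MulAction.exists_smul_eq G o a
    obtain ⟨k, -, hkq, hko⟩ := htrans (g⁻¹ • b)
      (fun e => hab (by rw [← hg, ← e, smul_inv_smul]))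
    exact ⟨g * k, by rw [mul_smul, hko, hg], by rw [mul_smul, hkq, smul_inv_smul]⟩
  have hfix2 : ∀ x : G, x • o = o → x • q = q → x ∈ pairStab H u := fun x h1 h2 =>
    mem_pairStab.mpr ⟨by simpa using smul_eq_iff.mp h1, smul_eq_iff.mp h2⟩
  have hZ : Cfsg.IsZassenhausGroup G (G ⧸ N) := by
    refine ⟨⟨fun {a b} hab => ?_⟩, ?_, ?_, ?_, ?_⟩
    · rcases (MulAction.toPermHom G (G ⧸ N)).normal_ker.eq_bot_or_eq_top with hk | hk
      · exact (MonoidHom.ker_eq_bot_iff _).mp hk (Equiv.ext hab)
      · refine absurd ((eq_top_iff' N).mpr fun g => ?_) hN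
        have hg : g ∈ (MulAction.toPermHom G (G ⧸ N)).ker := hk ▸ mem_top g
        have h1 : g • o = o := congrFun (congrArg DFunLike.coe (MonoidHom.mem_ker.mp hg)) o
        simpa using smul_eq_iff.mp h1
    · rw [MulAction.is_two_pretransitive_iff]
      intro a b c d hab hcd
      obtain ⟨g, hga, hgb⟩ := hpair a b hab
      obtain ⟨g', hgc, hgd⟩ := hpair c d hcd
      exact ⟨g' * g⁻¹, by rw [mul_smul, ← hga, inv_smul_smul, hgc],
        by rw [mul_smul, ← hgb, inv_smul_smul, hgd]⟩
    · intro x a b c hab hbc hac hxa hxb hxc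
      obtain ⟨g, hga, hgb⟩ := hpair a b hab
      by_contra hx1
      have hy1 : g⁻¹ * x * g ≠ 1 := fun e => hx1 (by
        have := congrArg (fun t => g * t * g⁻¹) e
        simpa [mul_assoc] using this)
      have hy : g⁻¹ * x * g ∈ pairStab H u := hfix2 _
        (by rw [mul_smul, mul_smul, hga, hxa, ← hga, inv_smul_smul])
        (by rw [mul_smul, mul_smul, hgb, hxb, ← hgb, inv_smul_smul])
      have hfc : (g⁻¹ * x * g) • (g⁻¹ • c) = g⁻¹ • c := by
        rw [mul_smul, mul_smul, smul_inv_smul, hxc]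
      have hco : g⁻¹ • c ≠ o := fun e => hac (by rw [← hga, ← e, smul_inv_smul])
      have hcq : g⁻¹ • c ≠ q := fun e => hbc (by rw [← hgb, ← e, smul_inv_smul])
      generalize g⁻¹ • c = y at hfc hco hcq
      induction y using QuotientGroup.induction_on with
      | H v =>
        refine hcq (QuotientGroup.eq.mpr ?_)
        have := fixed_coset hH hu huN hy hy1 (fun h => hco (mk_eq_one_iff.mpr h))
          (smul_eq_iff.mp hfc)
        simpa using inv_mem this
    · obtain ⟨d, hd, hd1⟩ := hne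
      exact ⟨d, hd1, o, q, hoq.symm, smul_eq_iff.mpr (by simpa using (mem_pairStab.mp hd).1),
        smul_eq_iff.mpr (mem_pairStab.mp hd).2⟩
    · intro M hM hMt
      rcases hM.eq_bot_or_eq_top with rfl | rfl
      · obtain ⟨⟨m, hm⟩, hmo⟩ := hMt.exists_smul_eq o q
        rw [mem_bot] at hm
        subst hm
        exact absurd ((one_smul G o).symm.trans hmo).symm hoq
      · obtain ⟨z, hz, hzo, -⟩ := exists_central_invol hH
        refine ⟨o, fun he => invol_ne_one hzo ?_⟩
        have : (⟨z, mem_top z⟩ : (⊤ : Subgroup G)) ∈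
            MulAction.stabilizer (⊤ : Subgroup G) o :=
          show z • o = o from smul_eq_iff.mpr (by simpa using le_normalizer hz)
        exact congrArg Subtype.val (mem_bot.mp (le_of_eq he this))
  have hko : ∀ k : H, (k : G) • o = o := fun k =>
    smul_eq_iff.mpr (by simpa using le_normalizer k.2)
  have hU : RegKernel o q H := by
    refine ⟨fun k hk => hko ⟨k, hk⟩, fun g hg k hk => conj_mem ?_ hk, fun x hx => ?_⟩
    · have := smul_eq_iff.mp hg
      simpa using this
    · obtain ⟨k, hk, hkq, -⟩ := htrans x hx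
      refine ⟨⟨k, hk⟩, hkq, fun b hb => ?_⟩
      have hmem : k⁻¹ * (b : G) ∈ pairStab H u := hfix2 _
        (smul_eq_iff.mpr (by simpa using mul_mem (inv_mem (le_normalizer hk)) (le_normalizer b.2)))
        (by rw [mul_smul, hb, ← hkq, inv_smul_smul])
      exact Subtype.ext (inv_mul_eq_one.mp
        (eq_one_of_mem_pairStab hH huN hmem (mul_mem (inv_mem hk) b.2))).symm
  have hcard : Nat.card H + 1 = Nat.card (G ⧸ N) := RegKernel.card_add_one hoq.symm hU
  have hn : Odd (Nat.card (G ⧸ N)) := hcard ▸ hH.even.add_one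
  rcases odd_degree hZ hoq.symm hU hn with hd | ⟨hU2, hna, -⟩
  · left
    obtain ⟨F, fF, ffF, ⟨n, hF⟩, hFc, ⟨e⟩⟩ :=
      BenderSuzuki.psl_of_sharp_card hZ hoq.symm hn (sharply_of_card hZ hoq.symm hd).1
    have : Fact (Nat.Prime 2) := ⟨Nat.prime_two⟩
    have : CharP F 2 := charP_of_card_eq_prime_pow (f := n) hF
    let e' : Matrix.SpecialLinearGroup (Fin 2) F ≃* Matrix.ProjectiveSpecialLinearGroup (Fin 2) F :=
      ((QuotientGroup.quotientMulEquivOfEq center_sl_two_char_two).trans
        QuotientGroup.quotientBot).symm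
    refine ⟨F, fF, ffF, ⟨n, ?_, hF⟩, ⟨e.trans e'.symm⟩⟩
    have hHF : Nat.card H = 2 ^ n := by omega
    by_contra hn2
    obtain ⟨d, hd', hd1⟩ := hne
    obtain ⟨z, hz, hzo, hzc⟩ := exists_central_invol hH
    refine hd1 (eq_one_of_commute hH huN hd' hz (invol_ne_one hzo) ?_)
    have hle : Nat.card H ≤ 2 := by
      rw [hHF]
      exact (Nat.pow_le_pow_right two_pos (show n ≤ 1 by omega)).trans_eq (pow_one 2)
    have hz' : d * z * d⁻¹ ∈ H := conj_mem (mem_pairStab.mp hd').1 hz
    have hcl : ∀ y : H, y = 1 ∨ y = ⟨z, hz⟩ := by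
      intro y
      by_contra hy
      push Not at hy
      have h3 : Nat.card ({1, ⟨z, hz⟩, y} : Finset H) ≤ Nat.card H :=
        Nat.card_le_card_of_injective Subtype.val Subtype.val_injective
      have h1z : (1 : H) ≠ ⟨z, hz⟩ := fun e => invol_ne_one hzo (congrArg Subtype.val e).symm
      rw [Nat.card_eq_fintype_card, Fintype.card_coe,
        Finset.card_eq_three.2 ⟨1, ⟨z, hz⟩, y, h1z, hy.1.symm, hy.2.symm, rfl⟩] at h3
      omega
    rcases hcl ⟨_, hz'⟩ with h1 | h1
    · exact absurd (conj_eq_one_iff.mp (congrArg Subtype.val h1)) (invol_ne_one hzo)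
    · have h1' : d * z * d⁻¹ = z := congrArg Subtype.val h1
      calc d * z = d * z * d⁻¹ * d := by group
        _ = z * d := by rw [h1']
  · exact Or.inr (RankOneIdent.Suzuki.isoSuzuki hZ hoq.symm hU hU2 hna)

end Cfsg.Agent.Lib.FrobSystem
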